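import Cfsg.Agent.SOLV.SemiR3

/-! The cases of the analysis of an involution with `C_S(t)` cyclic of order 4. -/

set_option autoImplicit false

namespace CL.SR1.Cx
open Subgroup Cfsg CL.MSS CL.PCyc

variable {G : Type*} [Group G] [Finite G] {A S : Subgroup G} {t r b : G} {n : ℕ}

theorem caseI (h : Cx S t r b 0) (hA : pResidual 2 A = ⊤) (hS : SylIn 2 S A)
    (htN : t ∈ normalizer (A : Set G)) {y : G} (hy : y ∈ S) (y1 : y ≠ 1) (y2 : y * y = 1)
    (yz : y ≠ b) : False := by
  have hb2 : b * b = 1 := by simpa using h.z2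
  have hb1 : b ≠ 1 := by simpa using h.z1
  have hrr : r * r = b := by simpa using h.rr
  have hbc : ∀ s ∈ S, Commute s b := fun s hs => by simpa using h.zc hs
  obtain ⟨hi, hMS, -⟩ := h.M2
  have hM : zpowers b ⊔ zpowers r = zpowers r :=
    sup_eq_right.2 (zpowers_le.2 (hrr ▸ mul_mem (mem_zpowers r) (mem_zpowers r)))
  have hgen := fun s hs => h.gen (s := s) hs
  rw [hM] at hi hMS hgen
  have huniq : ∀ f ∈ zpowers r, f * f = 1 → f = 1 ∨ f = b := fun f hf e => by
    have := cyc_inv (m := 1) h.ro hf e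
    rwa [pow_one, pow_two, hrr] at this
  have hsq : ∀ m ∈ zpowers r, m * m = 1 ∨ m * m = b := fun m hm =>
    huniq _ (mul_mem hm hm) (by
      have := orderOf_dvd_iff_pow_eq_one.1 (h.ro ▸ orderOf_dvd_of_mem_zpowers hm)
      rw [← this]; simp [pow_succ, mul_assoc])
  by_cases hc : ∃ f ∈ S, f ∉ zpowers r ∧ f * f = 1 ∧ Commute r f
  · obtain ⟨f, hf, hfR, f2, hc⟩ := hc
    obtain ⟨g, -, h1, h2⟩ := xt2 hA hS hi hf hfR f2
    have h3 : g * f * g⁻¹ = b := (huniq _ h1 (by rw [conj_sq, f2]; group)).resolve_left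
      fun e => hfR (conj_one e ▸ one_mem _)
    have h4 : ∀ s ∈ S, s * s = 1 ∨ s * s = b := fun s hs => by
      by_cases e : s ∈ zpowers r
      · exact hsq s e
      have h5 := (mul_iff hi hs hf).2 (by simp [e, hfR])
      have h6 := comm_of_gen hc.symm h5
      have h7 : Commute f s := by
        have := h6.mul_right (Commute.refl f).inv_right
        simpa using this
      rw [show s * s = s * f * (s * f) by
        rw [mul_assoc, ← mul_assoc f, h7.eq, mul_assoc s f, f2, mul_one]]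
      exact hsq _ h5
    rcases h4 _ (h2 r h.rS hc) with e | e
    · rw [conj_sq, hrr] at e; exact hb1 (conj_one e)
    · rw [conj_sq, ← h3] at e
      exact hfR (conj_inj e ▸ mul_mem (mem_zpowers r) (mem_zpowers r))
  push Not at hc
  have hcen : ∀ f ∈ S, f ∉ zpowers r → f * f = 1 → ∀ w ∈ zpowers r, Commute w f →
      w = 1 ∨ w = b := fun f hf hfR f2 w hw e => huniq w hw (by
    by_contra h1
    have := cyc_four (m := 0) h.ro hw h1
    rw [pow_zero, pow_one] at this
    exact hc f hf hfR f2 (comm_of_gen e.symm this).symm)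
  refine kprime (c := r * t) hA hS hi h.bS hb1 hb2 huniq (fun f hf hfR f2 w hw e => ?_)
    (mul_mem (le_normalizer (hS.le h.rS)) htN) ?_ (fun f hf f2 => ?_) hy
    (fun e => (huniq y e y2).elim y1 yz) y2
  · by_cases hwX : w ∈ zpowers r
    · rcases hcen f hf hfR f2 w hwX e with e | e <;> simp [e]
    · have h3 := (mul_iff hi (inv_mem hf) hw).2 (by simp [hfR, hwX])
      rcases hcen f hf hfR f2 _ h3 (((Commute.refl f).inv_left).mul_left e) with e | e
      · exact .inr (.inr (.inl (inv_mul_eq_one.1 e).symm))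
      · exact .inr (.inr (.inr (inv_mul_eq_iff_eq_mul.1 e)))
  · rw [← pow_two, h.rt.mul_pow, pow_two, pow_two, h.t2, mul_one, hrr]
  · have htb : Commute t b := by
      have := h.tb
      rwa [inv_eq_of_mul_eq_one_right hb2, mul_inv_eq_iff_eq_mul] at this
    by_cases hfR : f ∈ zpowers r
    · rcases huniq f hfR f2 with rfl | rfl
      · exact Commute.one_right _
      · exact (hbc r h.rS).mul_left htb
    have h1 : r * f * r⁻¹ * f⁻¹ = b := (zp2 hb2 (h.comm h.rS hf)).resolve_left fun e =>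
      hc f hf hfR f2 (by rwa [mul_inv_eq_one, mul_inv_eq_iff_eq_mul] at e)
    have h2 : f * t * f⁻¹ * t⁻¹ = b := (zp2 hb2 (h.psi f hf)).resolve_left fun e => by
      have := hgen f hf hfR
      rw [e, zpowers_one_eq_bot, mem_bot] at this
      exact hb1 this
    have h3 : t * f * t⁻¹ = b⁻¹ * f := by
      rw [← h2, inv_eq_of_mul_eq_one_right f2]
      simp only [mul_inv_rev, inv_inv, mul_assoc, f2, mul_one, inv_eq_of_mul_eq_one_right f2]
    refine mul_inv_eq_iff_eq_mul.1 ?_
    calc _ = r * (t * f * t⁻¹) * r⁻¹ := by group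
      _ = (r * b * r⁻¹)⁻¹ * (r * f * r⁻¹ * f⁻¹) * f := by rw [h3]; group
      _ = f := by rw [h1, (hbc r h.rS).eq]; group

theorem caseII (h : Cx S t r b n) (hn : 1 ≤ n) (hA : pResidual 2 A = ⊤) (hS : SylIn 2 S A)
    (htN : t ∈ normalizer (A : Set G)) (hrb : r * b * r⁻¹ = b⁻¹)
    (hG1 : ∀ g ∈ normalizer (A : Set G), ∀ x ∈ S, Commute x (g * t * g⁻¹) → x * x * (x * x) = 1)
    (hG2 : ∀ g ∈ normalizer (A : Set G), ∀ x ∈ S, ∀ x' ∈ S, x ≠ 1 → x' ≠ 1 → x * x = 1 →
      x' * x' = 1 → Commute x x' → Commute x (g * t * g⁻¹) → Commute x' (g * t * g⁻¹) → x = x')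
    {y : G} (hy : y ∈ S) (y1 : y ≠ 1) (y2 : y * y = 1) (yz : y ≠ b ^ 2 ^ n) : False := by
  have : Fact (Nat.Prime 2) := ⟨Nat.prime_two⟩
  obtain ⟨hi, hMS, hM⟩ := h.M2
  have z1 := h.z1
  have z2 := h.z2
  have zB := h.zB
  have rr := h.rr
  have uniq := fun f hf => h.uniq (f := f) hf
  have zc := fun s hs => h.zc (s := s) hs
  generalize b ^ 2 ^ n = z at *
  have rinv : ∀ β ∈ zpowers b, r * β * r⁻¹ = β⁻¹ := fun β hβ => inv_of_gen hrb hβ
  have hb2 : b * b ≠ 1 := fun e => by
    obtain ⟨s, hs, hsM⟩ := h.exists_out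
    refine h.sq_ne hn hs hsM ?_
    rcases zp2 e (h.psi s hs) with e1 | e1 <;> rw [e1]
    exacts [one_mul _, e]
  have hMi : ∀ m ∈ zpowers b ⊔ zpowers r, m * m = 1 → m ∈ zpowers b := fun m hm e =>
    (hM m hm).resolve_right fun h1 => z1 (by
      have := rinv _ h1
      calc z = (m * r⁻¹) * (r * (m * r⁻¹) * r⁻¹) * (r * r) := by rw [this, rr]; group
        _ = m * m := by group
        _ = 1 := e)
  have hyM : y ∉ zpowers b ⊔ zpowers r := fun e => (uniq y (hMi y e y2) y2).elim y1 yz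
  have yinv : ∀ β ∈ zpowers b, y * β * y⁻¹ = β⁻¹ := fun β hβ => h.einv hy hyM y2 hβ
  obtain ⟨hiD, hDS, hD⟩ := h.two hy (fun e => hyM (mem_sup_left e)) (y2 ▸ one_mem _)
  have both : ∀ p q : G, p * b * p⁻¹ = b⁻¹ → q * b * q⁻¹ = b⁻¹ → Commute (p * q) b :=
    fun p q hp hq => mul_inv_eq_iff_eq_mul.1 (by
      calc _ = p * (q * b * q⁻¹) * p⁻¹ := by group
        _ = (p * b * p⁻¹)⁻¹ := by rw [hq]; group
        _ = b := by rw [hp, inv_inv])
  have bb := mem_zpowers b
  obtain ⟨g, hg, hu⟩ := tt4 hA hS hDS hiD (fun e he e2 => by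
    by_contra heD
    have heM : e ∉ zpowers b ⊔ zpowers r := fun h1 => heD (mem_sup_left (hMi e h1 e2))
    rcases hM _ ((mul_iff hi he hy).2 (by simp [heM, hyM])) with h1 | h1
    · have := mul_mem (mem_sup_left (T := zpowers y) h1) (mem_sup_right (inv_mem (mem_zpowers y)))
      exact heD (by simpa using this)
    · have h2 := both _ _ (h.einv he heM e2 bb) (yinv b bb)
      have h3 : Commute r b := by
        have := (cyc_comm h1 bb).inv_left.mul_left h2
        simpa [mul_assoc] using this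
      rw [h3.eq, mul_inv_cancel_right, eq_inv_iff_mul_eq_one] at hrb
      exact hb2 hrb) h.rS h.ro
  set u := g * r * g⁻¹ with hu'
  have hu2 : u * u = g * z * g⁻¹ := by rw [hu', conj_sq, rr]
  have huB : u ∈ zpowers b := (hD u hu).resolve_right fun h1 => z1 (conj_one (g := g) (by
    have := yinv _ h1
    calc _ = (u * y⁻¹) * (y * (u * y⁻¹) * y⁻¹) * (y * y) := by rw [← hu2]; group
      _ = 1 := by rw [this, y2]; group))
  have hgz : g * z * g⁻¹ = z := (uniq _ (hu2 ▸ mul_mem huB huB)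
    (by rw [conj_sq, z2]; group)).resolve_left fun e => z1 (conj_one e)
  rw [hgz] at hu2
  have hcb : Commute (r * t) b := both _ _ hrb h.tb
  have hc2 : r * t * (r * t) = z := by
    rw [← pow_two, h.rt.mul_pow, pow_two, pow_two, h.t2, mul_one, rr]
  have hxb : Commute (y * r) b := both _ _ (yinv b bb) hrb
  have hxM : y * r ∉ zpowers b ⊔ zpowers r := fun e =>
    hyM (by simpa using mul_mem e (inv_mem (mem_sup_right (mem_zpowers r))))
  have hx2 : y * r * (y * r) = (r * y * r⁻¹ * y⁻¹)⁻¹ * z := by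
    rw [← yinv _ (h.comm h.rS hy), ← rr]
    calc _ = y * (r * y * r⁻¹ * (y * y)⁻¹) * (r * r) := by rw [y2]; group
      _ = _ := by group
  obtain ⟨hiX, hXS, hX⟩ := h.two (mul_mem hy h.rS) (fun e => hxM (mem_sup_left e))
    (hx2 ▸ mul_mem (inv_mem (h.comm h.rS hy)) zB)
  have hXb : ∀ m ∈ zpowers b ⊔ zpowers (y * r), Commute m b := fun m hm =>
    (mem_centralizer_singleton_iff.1 ((sup_le (zpowers_le.2 (mem_centralizer_singleton_iff.2 rfl))
      (zpowers_le.2 (mem_centralizer_singleton_iff.2 hxb.eq)) :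
        _ ≤ centralizer {b}) hm))
  -- action of `c` outside `M`
  have hgam : ∀ s ∈ S, s * t * s⁻¹ * t⁻¹ * (r * s * r⁻¹ * s⁻¹) *
      (s * t * s⁻¹ * t⁻¹ * (r * s * r⁻¹ * s⁻¹)) = 1 := fun s hs => by
    have h1 := h.rpsi hs
    rw [rinv _ (h.psi s hs), inv_eq_iff_mul_eq_one] at h1
    rw [← pow_two, (cyc_comm (h.psi s hs) (h.comm h.rS hs)).mul_pow, pow_two, pow_two, mul_assoc, h1]
  have hcs : ∀ s ∈ S, r * t * s * (r * t)⁻¹ =
      s * t * s⁻¹ * t⁻¹ * (r * s * r⁻¹ * s⁻¹) * s := fun s hs => by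
    have h1 := rinv _ (inv_mem (h.psi s hs))
    rw [inv_inv] at h1
    rw [← h1]; group
  have hcs' : ∀ s ∈ S, r * t * s * (r * t)⁻¹ = s ∨ r * t * s * (r * t)⁻¹ = z * s := fun s hs => by
    rw [hcs s hs]
    rcases uniq _ (mul_mem (h.psi s hs) (h.comm h.rS hs)) (hgam s hs) with e | e <;> simp [e]
  have hγ : ∀ s ∈ S, s ∉ zpowers b ⊔ zpowers r →
      r * s * r⁻¹ * s⁻¹ * (r * s * r⁻¹ * s⁻¹) ≠ 1 := fun s hs hsM e => by
    have h1 := hgam s hs
    rw [← pow_two, (cyc_comm (h.psi s hs) (h.comm h.rS hs)).mul_pow, pow_two, pow_two, e,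
      mul_one] at h1
    exact h.sq_ne hn hs hsM h1
  have hcN : r * t ∈ normalizer (A : Set G) := mul_mem (le_normalizer (hS.le h.rS)) htN
  obtain ⟨D, hDp, hXD, hDA, hDu, k, hk, hku, m, hm, e⟩ := conj_into
    (P := zpowers b ⊔ zpowers (y * r)) (Y := {u}) hcN hg
    (IsPGroup.of_card (n := 2) (by
      rw [Nat.card_zpowers]
      exact orderOf_eq_prime_pow (p := 2) (n := 1) (by rw [pow_one, pow_two, hc2]; exact z1)
        (by rw [show 2 ^ (1 + 1) = 2 * 2 by rfl, pow_mul, pow_two (r * t), hc2, pow_two, z2])))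
    (hS.pgroup.to_le hXS) (hXS.trans hS.le)
    (by
      refine mem_normalizer_fintype fun s hs => ?_
      rcases hcs' s (hXS hs) with e | e <;> rw [e]
      exacts [hs, mul_mem (mem_sup_left zB) hs])
    (fun m hm => mem_centralizer_singleton_iff.2 (comm_of_gen (hXb m hm) huB).eq)
    (mem_centralizer_singleton_iff.2 (comm_of_gen hcb huB).eq)
    (mem_centralizer_singleton_iff.2 (((Commute.refl r).mul_left h.rt.symm).conj g).eq)
  rw [mem_centralizer_singleton_iff] at hku
  have hDX : zpowers b ⊔ zpowers (y * r) = D := by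
    obtain ⟨a, -, ha⟩ := hS.exists_conj_le hDp hDA
    have huD : u ∈ D := hXD (mem_sup_left huB)
    have hvS : a * u * a⁻¹ ∈ S := ha (mem_map_of_mem _ huD)
    have hlt : D.map (MulAut.conj a).toMonoidHom < S := lt_of_le_of_ne ha fun e1 => by
      have hv : ∀ s ∈ S, Commute s (a * u * a⁻¹) := fun s hs => by
        rw [← e1] at hs
        obtain ⟨d, hd, rfl⟩ := hs
        exact Commute.conj (mem_centralizer_singleton_iff.1 (hDu hd)) a
      have hv2 : a * u * a⁻¹ * (a * u * a⁻¹) ≠ 1 := fun e2 => by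
        rw [conj_sq, hu2] at e2; exact z1 (conj_one e2)
      generalize a * u * a⁻¹ = v at hv hv2 hvS
      by_cases hvM : v ∈ zpowers b ⊔ zpowers r
      · rcases hM v hvM with h1 | h1
        · have := rinv v h1
          rw [(hv r h.rS).eq, mul_inv_cancel_right, eq_inv_iff_mul_eq_one] at this
          exact hv2 this
        · have h3 : Commute r b := by
            have := (cyc_comm h1 bb).inv_left.mul_left (hv b h.bS).symm
            simpa using this
          rw [h3.eq, mul_inv_cancel_right, eq_inv_iff_mul_eq_one] at hrb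
          exact hb2 hrb
      · exact hγ v hvS hvM (by rw [(hv r h.rS).eq]; group)
    have h1 := mul_card_le_of_lt hS.pgroup hlt
    rw [card_map_of_injective (MulAut.conj a).injective] at h1
    have h2 := relIndex_mul_relIndex ⊥ _ _ bot_le hXS
    rw [relIndex_bot_left, relIndex_bot_left, hiX] at h2
    exact eq_of_le_of_card_ge hXD (by omega)
  rw [← hDX] at hm
  have hkz : k * z * k⁻¹ = z := by rw [← hu2, ← conj_sq, hku]; group
  have h1 : m * (r * t * m * (r * t)⁻¹) = 1 := by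
    have : m * (r * t) * (m * (r * t)) = z := by
      rw [← e, conj_sq, conj_sq, hc2, hgz, hkz]
    calc _ = m * (r * t) * (m * (r * t)) * (r * t * (r * t))⁻¹ := by group
      _ = 1 := by rw [this, hc2]; group
  have hmS := hXS hm
  have hmB : m ∈ zpowers b := (hX m hm).resolve_right fun h2 => by
    have hmM : m ∉ zpowers b ⊔ zpowers r := fun h3 =>
      hxM (by simpa using mul_mem (inv_mem (mem_sup_left h2)) h3)
    have h3 : Commute r (m * m) := by
      rcases hcs' m hmS with e1 | e1 <;> rw [e1] at h1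
      · rw [h1]; exact Commute.one_right r
      · rw [← mul_assoc, (zc m hmS).eq, mul_assoc, ← inv_eq_iff_mul_eq_one] at h1
        rw [← h1]; exact (zc r h.rS).inv_right
    have h4 := comm_of_gen (hXb m hm) (h.comm h.rS hmS)
    refine hγ m hmS hmM ?_
    calc _ = r * m * r⁻¹ * m⁻¹ * (m * (r * m * r⁻¹ * m⁻¹)) * m⁻¹ := by rw [h4.eq]; group
      _ = r * (m * m) * r⁻¹ * (m * m)⁻¹ := by group
      _ = 1 := by rw [h3.eq]; group
  rw [(comm_of_gen hcb hmB).eq, mul_inv_cancel_right] at h1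
  have hmc : ∀ s ∈ S, Commute s m := fun s hs => by
    rcases uniq m hmB h1 with rfl | rfl
    exacts [Commute.one_right _, zc s hs]
  have ht' : k * g * t * (k * g)⁻¹ = u⁻¹ * m * (r * t) := by
    calc _ = (k * u * k⁻¹)⁻¹ * (k * (g * (r * t) * g⁻¹) * k⁻¹) := by rw [hu']; group
      _ = _ := by rw [e, hku]; group
  have hkg := mul_mem hk (le_normalizer hg)
  rcases hcs' y hy with e1 | e1
  · have h2 := hG1 _ hkg _ (mul_mem hy h.rS) (by
      rw [ht']
      refine ((comm_of_gen hxb huB).inv_right.mul_right (hmc _ (mul_mem hy h.rS))).mul_right ?_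
      exact (Commute.symm (mul_inv_eq_iff_eq_mul.1 e1)).mul_left ((Commute.refl r).mul_right h.rt))
    rw [hx2, ← pow_two, (cyc_comm (inv_mem (h.comm h.rS hy)) zB).mul_pow, pow_two z, z2, mul_one,
      inv_pow, inv_eq_one, pow_two] at h2
    exact hγ y hy hyM h2
  · refine yz (hG2 _ hkg y hy z (h.BS zB) y1 z1 y2 z2 (zc y hy) ?_ ?_) <;> rw [ht']
    · refine Commute.symm (mul_inv_eq_iff_eq_mul.1 ?_)
      have h2 := yinv u huB
      have h3 := (hmc _ (mul_mem (h.BS zB) hy)).eq
      calc _ = u⁻¹ * (m * (r * t * y * (r * t)⁻¹) * m⁻¹) * u := by group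
        _ = u⁻¹ * z * (y * u * y⁻¹) * y := by rw [e1, ← h3]; group
        _ = y := by rw [h2, ← hu2]; group
    · exact ((cyc_comm zB huB).inv_right.mul_right (cyc_comm zB hmB)).mul_right
        (comm_of_gen hcb zB).symm

end CL.SR1.Cx
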