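import Mathlib
import Cfsg.Agent.SOLV.ProductsHall

/-!
Wielandt's theorem on products of two nilpotent groups of coprime orders, first part: the structure
of a minimal counterexample.
-/

set_option autoImplicit false

open Subgroup Cfsg
open scoped Pointwise

namespace CL

variable {G : Type*} [Group G]

/-- A minimal counterexample to Wielandt's theorem. -/
structure KWPair (A B : Subgroup G) : Prop where
  nilA : Group.IsNilpotent A
  nilB : Group.IsNilpotent B
  cop : (Nat.card A).Coprime (Nat.card B)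
  fact : IsFact A B
  simple : IsSimpleGroup G
  nsolv : ¬ Group.IsSolvable G
  ih : ∀ L : Subgroup G, L ≠ ⊤ → ∀ X Y : Subgroup L, Group.IsNilpotent X → Group.IsNilpotent Y →
    (Nat.card X).Coprime (Nat.card Y) → IsFact X Y → Group.IsSolvable L

namespace KWPair

variable {A B : Subgroup G}

theorem symm (h : KWPair A B) : KWPair B A :=
  ⟨h.nilB, h.nilA, h.cop.symm, h.fact.symm, h.simple, h.nsolv, h.ih⟩

theorem conj_right (h : KWPair A B) (y : G) : KWPair A (MulAut.conj y • B) :=
  ⟨h.nilA, by have := h.nilB; exact isNilpotent_map B _, by rw [card_conj_smul]; exact h.cop,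
    h.fact.conj_right y, h.simple, h.nsolv, h.ih⟩

theorem conj_left (h : KWPair A B) (x : G) : KWPair (MulAut.conj x • A) B :=
  (h.symm.conj_right x).symm

theorem isSolvable (h : KWPair A B) {L : Subgroup G} (hL : L ≠ ⊤)
    (hf : IsFact (A.subgroupOf L) (B.subgroupOf L)) : Group.IsSolvable L := by
  refine h.ih L hL _ _ (isNilpotent_subgroupOf h.nilA L) (isNilpotent_subgroupOf h.nilB L) ?_ hf
  rw [card_subgroupOf_eq, card_subgroupOf_eq]
  exact (h.cop.coprime_dvd_left (card_dvd_of_le inf_le_left)).coprime_dvd_right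
    (card_dvd_of_le inf_le_left)

theorem ne_top (h : KWPair A B) {U : Subgroup G} (hU : Group.IsSolvable U) : U ≠ ⊤ := by
  rintro rfl
  exact h.nsolv (isSolvable_of_mulEquiv topEquiv)

theorem normalizer_ne_top (h : KWPair A B) {U : Subgroup G} (h1 : U ≠ ⊥) (h2 : U ≠ ⊤) :
    normalizer (U : Set G) ≠ ⊤ := fun e =>
  (h.simple.eq_bot_or_eq_top_of_normal U (normalizer_eq_top_iff.1 e)).elim h1 h2

theorem left_ne_top (h : KWPair A B) : A ≠ ⊤ := h.ne_top (by have := h.nilA; infer_instance)

theorem left_ne_bot (h : KWPair A B) : A ≠ ⊥ := fun e =>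
  h.symm.left_ne_top (h.fact.eq_top_of_le (e ▸ bot_le) le_rfl)

theorem inf_eq_bot (h : KWPair A B) : A ⊓ B = ⊥ := (disjoint_of_coprime_natCard h.cop).eq_bot

theorem normalizer_left_ne_top (h : KWPair A B) : normalizer (A : Set G) ≠ ⊤ :=
  h.normalizer_ne_top h.left_ne_bot h.left_ne_top

theorem centralizer_ne_top (h : KWPair A B) {x : G} (hx : x ≠ 1) :
    centralizer ({x} : Set G) ≠ ⊤ := fun e => by
  have := h.simple
  have hc := Char.mul_comm_of_simple_of_mem_center hx
    (mem_center_iff.2 fun g => mem_centralizer_singleton_iff.1 (e.ge (mem_top g)))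
  exact h.nsolv (Group.isSolvable_of_comm hc)

theorem not_dvd_index (h : KWPair A B) {p : ℕ} (hp : p.Prime) (hd : p ∣ Nat.card A) :
    ¬ p ∣ A.index := fun h' =>
  hp.one_lt.ne' (Nat.eq_one_of_dvd_coprimes h.cop hd (h'.trans h.fact.symm.index_dvd_card))

variable [Finite G]

theorem exists_center (h : KWPair A B) :
    ∃ z ∈ A, z ≠ 1 ∧ z ∈ centralizer (A : Set G) := by
  obtain ⟨⟨z, hz⟩, hz1⟩ := ne_bot_iff_exists_ne_one.1
    (inf_centralizer_ne_bot_of_isNilpotent h.nilA le_rfl le_normalizer h.left_ne_bot)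
  exact ⟨z, hz.1, fun e => hz1 (Subtype.ext e), hz.2⟩

theorem exists_center_prime (h : KWPair A B) {p : ℕ} (hp : p.Prime) (hd : p ∣ Nat.card A) :
    ∃ z ∈ A, z ≠ 1 ∧ z ∈ centralizer (A : Set G) ∧ ∃ k, z ^ p ^ k = 1 := by
  have := Fact.mk hp
  obtain ⟨⟨z, hz⟩, hz1⟩ := ne_bot_iff_exists_ne_one.1
    (inf_centralizer_ne_bot_of_isNilpotent h.nilA (Op_le p A) (le_normalizer_Op p A)
      (Op_ne_bot h.nilA hd))
  obtain ⟨k, hk⟩ := isPGroup_Op p A ⟨z, hz.1⟩
  exact ⟨z, Op_le p A hz.1, fun e => hz1 (Subtype.ext e), hz.2, k, congrArg Subtype.val hk⟩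

/-- Step 1: `|A|` has at least two prime divisors. -/
theorem exists_prime_ne (h : KWPair A B) {p : ℕ} (hp : p.Prime) :
    ∃ u : ℕ, u.Prime ∧ u ∣ Nat.card A ∧ u ≠ p := by
  by_contra hc
  obtain ⟨z, hz, hz1, hzc⟩ := h.symm.exists_center
  have h1 : B ≤ centralizer ({z} : Set G) := fun b hb =>
    mem_centralizer_singleton_iff.2 (hzc b hb)
  obtain ⟨k, hk⟩ := (isPiNum_singleton_iff hp (centralizer ({z} : Set G)).index_ne_zero_of_finite).1
    fun q hq hd => by
      by_contra hqp
      exact hc ⟨q, hq, hd.trans ((index_dvd_of_le h1).trans h.fact.index_dvd_card), hqp⟩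
  have := h.simple
  exact h.nsolv (Group.isSolvable_of_comm (Char.mul_comm_of_simple_of_prime_pow_class hp hz1 hk))

/-- Step 2: a Sylow subgroup of `A` and a Sylow subgroup of `B` generate `G`. -/
theorem Op_sup_Op (h : KWPair A B) {s r : ℕ} [hs : Fact s.Prime] [hr : Fact r.Prime]
    (hsA : s ∣ Nat.card A) (hrB : r ∣ Nat.card B) : Op s A ⊔ Op r B = ⊤ := by
  by_contra hne
  have h1 := Op_ne_bot h.nilA hsA
  have h2 := Op_ne_bot h.nilB hrB
  set L := normalizer ((Op s A ⊔ Op r B : Subgroup G) : Set G) with hL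
  have hLt : L ≠ ⊤ := h.normalizer_ne_top (fun e => h1 (eq_bot_iff.2 (le_sup_left.trans e.le))) hne
  have hf := h.fact.subgroupOf_normalizer_sup (le_normalizer_Op s A) (le_normalizer_Op r B)
  have := h.isSolvable hLt hf
  have hXL : Op s A ≤ L := le_sup_left.trans le_normalizer
  have hYL : Op r B ≤ L := le_sup_right.trans le_normalizer
  have hall : ∀ (p : ℕ) [Fact p.Prime] (X : Subgroup G), X ≤ L → IsPGroup p X → ¬ p ∣ X.index →
      (Nat.card (X.subgroupOf L)).Coprime (X.subgroupOf L).index := fun p hp X hX h3 h4 => by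
    obtain ⟨k, hk⟩ := IsPGroup.iff_card.1 h3
    rw [card_subgroupOf_of_le hX, hk]
    exact Nat.Coprime.pow_left k (hp.out.coprime_iff_not_dvd.2 fun h5 =>
      h4 (h5.trans (relIndex_dvd_index_of_le hX)))
  have hn : ∀ X Y : Subgroup G, X ≤ L → Y ≤ normalizer (X : Set G) →
      Y.subgroupOf L ≤ normalizer ((X.subgroupOf L : Subgroup L) : Set L) := fun X Y hX hY => by
    rw [← subgroupOf_normalizer_eq hX]
    exact comap_mono hY
  have h3 := (hf.permutes_of_hall (hn _ _ hXL (le_normalizer_Op s A))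
    (hn _ _ hYL (le_normalizer_Op r B))
    (hall s _ hXL (isPGroup_Op s A) (not_dvd_index_Op h.nilA (h.not_dvd_index hs.out hsA)))
    (hall r _ hYL (isPGroup_Op r B)
      (not_dvd_index_Op h.nilB (h.symm.not_dvd_index hr.out hrB)))).map L.subtype
  rw [map_subgroupOf_eq_of_le hXL, map_subgroupOf_eq_of_le hYL] at h3
  obtain ⟨N, hN, hNt, hle⟩ := exists_normal_of_permutes_conj (fun x => by
    simpa using h.fact.permutes_conj (le_normalizer_Op s A) (le_normalizer_Op r B) h3 1 x) hne
  rcases h.simple.eq_bot_or_eq_top_of_normal N hN with rfl | rfl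
  · exact hle.elim (fun e => h1 (eq_bot_iff.2 e)) fun e => h2 (eq_bot_iff.2 e)
  · exact hNt rfl

theorem dvd_index_or (h : KWPair A B) {H : Subgroup G} (hH : H ≠ ⊤) {s r : ℕ} (hs : s.Prime)
    (hr : r.Prime) (hsA : s ∣ Nat.card A) (hrB : r ∣ Nat.card B) : s ∣ H.index ∨ r ∣ H.index := by
  have := Fact.mk hs
  have := Fact.mk hr
  by_contra hc
  rw [not_or] at hc
  obtain ⟨x, hx⟩ := exists_conj_le_of_not_dvd_index (isPGroup_Op s A) hc.1
  obtain ⟨y, hy⟩ := exists_conj_le_of_not_dvd_index (isPGroup_Op r B) hc.2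
  exact hH (top_le_iff.1 ((h.fact.conj_sup_conj_eq_top (le_normalizer_Op s A)
    (le_normalizer_Op r B) (h.Op_sup_Op hsA hrB) x y).ge.trans (sup_le hx hy)))

theorem exists_le_conj (h : KWPair A B) {p : ℕ} [hp : Fact p.Prime] (hd : p ∣ Nat.card A)
    {P : Subgroup G} (hP : IsPGroup p P) : ∃ x : G, P ≤ MulAut.conj x • A := by
  obtain ⟨x, hx⟩ := exists_conj_le_of_not_dvd_index hP (h.not_dvd_index hp.out hd)
  refine ⟨x⁻¹, ?_⟩
  have := conj_smul_mono x⁻¹ hx
  rwa [conj_smul_conj_smul, inv_mul_cancel, conj_one_smul] at this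

/-- The normalizer of a nontrivial `p`-subgroup, `p ∣ |A|`, contains no Sylow `r`-subgroup for
`r ∣ |B|`. -/
theorem dvd_index_normalizer (h : KWPair A B) {p : ℕ} [hp : Fact p.Prime] (hd : p ∣ Nat.card A)
    {P : Subgroup G} (hP : IsPGroup p P) (hP1 : P ≠ ⊥) {r : ℕ} (hr : r.Prime)
    (hrB : r ∣ Nat.card B) : r ∣ (normalizer (P : Set G)).index := by
  obtain ⟨x, hx⟩ := h.exists_le_conj hd hP
  have h' := h.conj_left x
  obtain ⟨u, hu, huA, hup⟩ := h'.exists_prime_ne hp.out
  have := Fact.mk hu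
  refine (h'.dvd_index_or (h.normalizer_ne_top hP1 (h.ne_top (isSolvable_of_isPGroup hP))) hu hr
    huA hrB).resolve_left fun h1 => not_dvd_index_Op h'.nilA (h'.not_dvd_index hu huA)
      (h1.trans (index_dvd_of_le ((Op_le_centralizer h'.nilA hx ?_).trans
        (centralizer_le_normalizer _))))
  obtain ⟨k, hk⟩ := IsPGroup.iff_card.1 hP
  rw [hk]
  exact Nat.Coprime.pow_left k ((Nat.coprime_primes hp.out hu).2 hup.symm)

theorem fittingOf_le (h : KWPair A B) {L : Subgroup G}
    (hf : IsFact (A.subgroupOf L) (B.subgroupOf L)) {r : ℕ} (hr : r.Prime)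
    (hrB : r ∣ Nat.card B) (hrL : ¬ r ∣ L.index) : fittingOf L ≤ B := by
  refine le_of_forall_Op_le (isNilpotent_fittingOf L) fun p hp hd => ?_
  have hn : L ≤ normalizer (Op p (fittingOf L) : Set G) :=
    (le_normalizer_fittingOf L).trans (normalizer_le_normalizer_map_pCore _)
  by_cases hpA : p ∣ Nat.card A
  · exact absurd ((h.dvd_index_normalizer hpA (isPGroup_Op p _)
      (Op_ne_bot (isNilpotent_fittingOf L) hd) hr hrB).trans (index_dvd_of_le hn)) hrL
  · exact hf.le_right_of_coprime ((Op_le p _).trans (CL.fittingOf_le L)) hn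
      (coprime_card_of_isPGroup_of_coprime (isPGroup_Op p _)
        (hp.out.coprime_iff_not_dvd.2 hpA).symm)

/-- Step 4: a proper subgroup containing `B` normalizes `B`. -/
theorem le_normalizer_of_le (h : KWPair A B) {M : Subgroup G} (hM : M ≠ ⊤) (hBM : B ≤ M) :
    M ≤ normalizer (B : Set G) := by
  have hf := h.fact.subgroupOf_of_le_right hBM
  have hs := h.isSolvable hM hf
  have hidx : ∀ r : ℕ, r.Prime → r ∣ Nat.card B → ¬ r ∣ M.index := fun r hr hrB hd =>
    h.symm.not_dvd_index hr hrB (hd.trans (index_dvd_of_le hBM))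
  obtain ⟨r₀, hr₀, hr₀B, -⟩ := h.symm.exists_prime_ne Nat.prime_two
  have hFB := h.fittingOf_le hf hr₀ hr₀B (hidx r₀ hr₀ hr₀B)
  have hFn := isNilpotent_fittingOf M
  set F := fittingOf M with hF
  let L : ℕ → Subgroup G := fun r => centralizer (Op' r F : Set G) ⊓ M
  have hLn : ∀ r, M ≤ normalizer (L r : Set G) := fun r => le_normalizer_inf
    (le_normalizer_centralizer ((le_normalizer_fittingOf M).trans
      (normalizer_le_normalizer_map_pPrimeCore F))) le_normalizer
  have h1 : ∀ (r : ℕ) [Fact r.Prime], Op r B ≤ L r := fun r _ =>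
    le_inf (Op_le_centralizer h.nilB ((Op'_le r F).trans hFB) (coprime_card_Op' r F))
      ((Op_le r B).trans hBM)
  have h2 : ∀ (r t : ℕ) [Fact r.Prime] [Fact t.Prime], r ≠ t → L r ⊓ L t ≤ F := by
    intro r t _ _ hrt
    refine le_trans (le_inf ?_ (inf_le_left.trans inf_le_right)) (centralizer_fittingOf_inf_le hs)
    rw [le_centralizer_iff, ← hF, ← Op_sup_Op' hFn r]
    exact sup_le ((Op_le_Op'_of_ne hrt).trans (le_centralizer_iff.1
      (inf_le_right.trans inf_le_left))) (le_centralizer_iff.1 (inf_le_left.trans inf_le_left))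
  have h3 : ∀ (r : ℕ) [Fact r.Prime], (Nat.card (L r)).Coprime (Nat.card A) := by
    intro r hr
    refine Nat.coprime_of_dvd fun p hp hpL hpA => ?_
    have := Fact.mk hp
    obtain ⟨t, ht, htB, htr⟩ := h.symm.exists_prime_ne hr.out
    have := Fact.mk ht
    obtain ⟨P⟩ : Nonempty (Sylow p (L r)) := inferInstance
    have h4 := h.dvd_index_normalizer hpA (P.isPGroup'.map (L r).subtype) (by
      rw [Ne, map_eq_bot_iff_of_injective _ (L r).subtype_injective]
      exact P.ne_bot_of_dvd_card hpL) ht htB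
    have h5 := relIndex_normalizer_sylow_eq (inf_le_right : L r ≤ M) (hLn r) P
    set N := normalizer (((P : Subgroup (L r)).map (L r).subtype : Subgroup G) : Set G)
    have h6 : Op t B ⊓ L r ≤ N := by
      refine le_trans ?_ (centralizer_le_normalizer _)
      rw [le_centralizer_iff]
      refine (map_subtype_le _).trans (inf_le_left.trans (centralizer_le ?_))
      exact ((le_Op_of_isNilpotent hFn (isPGroup_Op t B).to_inf_left
        ((le_inf inf_le_right (inf_le_left.trans (h1 t))).trans (h2 r t htr.symm))).trans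
        (Op_le_Op'_of_ne htr) :)
    have h7 : N.relIndex (L r) ∣ (Op t B).index := by
      have := normal_subgroupOf_of_le_normalizer (hLn r)
      calc N.relIndex (L r) ∣ (Op t B ⊓ L r).relIndex (L r) := relIndex_dvd_of_le_left _ h6
        _ = ((Op t B).subgroupOf M).relIndex ((L r).subgroupOf M) := by
          rw [inf_relIndex_right, relIndex_subgroupOf inf_le_right]
        _ ∣ ((Op t B).subgroupOf M).index := relIndex_dvd_index_of_normal_right _ _
        _ ∣ _ := relIndex_dvd_index_of_le ((Op_le t B).trans hBM)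
    have h8 := h4.trans (index_dvd_of_le (inf_le_left : N ⊓ M ≤ N))
    rw [← relIndex_mul_index (inf_le_right : N ⊓ M ≤ M), inf_relIndex_right, h5, ht.dvd_mul] at h8
    rcases h8 with h8 | h8
    · exact not_dvd_index_Op h.nilB (h.symm.not_dvd_index ht htB) (h8.trans h7)
    · exact hidx t ht htB h8
  have h4 : B ≤ F := le_of_forall_Op_le h.nilB fun r _ _ => (h1 r).trans
    (le_fittingOf inf_le_right (hLn r) (isNilpotent_of_le h.nilB
      (hf.le_right_of_coprime inf_le_right (hLn r) (h3 r))))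
  rw [← le_antisymm hFB h4]
  exact le_normalizer_fittingOf M

/-- Step 5: a proper factorized subgroup containing a Sylow subgroup of `B` normalizes `B`. -/
theorem le_normalizer_of_isFact (h : KWPair A B) {L : Subgroup G} (hL : L ≠ ⊤)
    (hf : IsFact (A.subgroupOf L) (B.subgroupOf L)) {r : ℕ} [hr : Fact r.Prime]
    (hrB : r ∣ Nat.card B) (hR : Op r B ≤ L) : L ≤ normalizer (B : Set G) := by
  have hs := h.isSolvable hL hf
  have hFB := h.fittingOf_le hf hr.out hrB fun hd =>
    not_dvd_index_Op h.nilB (h.symm.not_dvd_index hr.out hrB) (hd.trans (index_dvd_of_le hR))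
  have hFn := isNilpotent_fittingOf L
  have hn : L ≤ normalizer (Op r (fittingOf L) : Set G) :=
    (le_normalizer_fittingOf L).trans (normalizer_le_normalizer_map_pCore _)
  have h1 : Op r (fittingOf L) ≠ ⊥ := fun e => by
    have h2 : fittingOf L ≤ Op' r (fittingOf L) := by
      conv_lhs => rw [← Op_sup_Op' hFn r, e, bot_sup_eq]
    have h3 : Op r B ≤ fittingOf L := le_trans (le_inf (Op_le_centralizer h.nilB hFB
      ((coprime_card_Op' r _).coprime_dvd_left (card_dvd_of_le h2))) hR)
      (centralizer_fittingOf_inf_le hs)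
    exact Op_ne_bot h.nilB hrB
      (eq_bot_iff.2 ((le_Op_of_isNilpotent hFn (isPGroup_Op r B) h3).trans e.le))
  refine hn.trans (h.le_normalizer_of_le
    (h.normalizer_ne_top h1 (h.ne_top (isSolvable_of_isPGroup (isPGroup_Op r _)))) ?_)
  conv_lhs => rw [← Op_sup_Op' h.nilB r]
  refine sup_le (hR.trans hn) (le_trans ?_ (centralizer_le_normalizer _))
  exact le_centralizer_of_coprime_of_le_nilpotent h.nilB (Op'_le r B) ((Op_le r _).trans hFB)
    (coprime_card_of_isPGroup_of_coprime (isPGroup_Op r _) (coprime_card_Op' r B)).symm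

/-- Step 6: a central element of `A` and a Sylow subgroup of `B` generate `G`. -/
theorem zpowers_sup_Op (h : KWPair A B) {z : G} (hz1 : z ≠ 1) (hz : z ∈ centralizer (A : Set G))
    {r : ℕ} [hr : Fact r.Prime] (hrB : r ∣ Nat.card B) : zpowers z ⊔ Op r B = ⊤ := by
  by_contra hne
  have hA : A ≤ normalizer (zpowers z : Set G) :=
    (le_centralizer_iff.1 (zpowers_le.2 hz)).trans (centralizer_le_normalizer _)
  have h1 := h.le_normalizer_of_isFact (h.normalizer_ne_top (fun e => Op_ne_bot h.nilB hrB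
    (eq_bot_iff.2 (le_sup_right.trans e.le))) hne)
    (h.fact.subgroupOf_normalizer_sup hA (le_normalizer_Op r B)) hrB
    (le_sup_right.trans le_normalizer)
  have h2 := h.fact.normalClosure_le hA ((le_sup_left.trans le_normalizer).trans h1)
    (le_normalizer.trans le_normalizer)
  rcases h.simple.eq_bot_or_eq_top_of_normal (normalClosure (zpowers z : Set G)) inferInstance
    with e | e
  · exact hz1 (mem_bot.1 (e.le (subset_normalClosure (mem_zpowers z))))
  · exact h.symm.normalizer_left_ne_top (top_le_iff.1 (e.ge.trans h2))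

/-- A central element of `A` normalizes no nontrivial `q`-subgroup for `q ∣ |B|`. -/
theorem not_mem_normalizer (h : KWPair A B) {z : G} (hz1 : z ≠ 1)
    (hz : z ∈ centralizer (A : Set G)) {q : ℕ} [hq : Fact q.Prime] (hqB : q ∣ Nat.card B)
    {Q : Subgroup G} (hQ : IsPGroup q Q) (hQ1 : Q ≠ ⊥) : z ∉ normalizer (Q : Set G) := by
  intro hzQ
  obtain ⟨y, hy⟩ := h.symm.exists_le_conj hqB hQ
  have h' := h.conj_right y
  obtain ⟨r, hr, hrB, hrq⟩ := h'.symm.exists_prime_ne hq.out
  have := Fact.mk hr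
  refine h.normalizer_ne_top hQ1 (h.ne_top (isSolvable_of_isPGroup hQ))
    (top_le_iff.1 ((h'.zpowers_sup_Op hz1 hz hrB).ge.trans (sup_le (zpowers_le.2 hzQ)
      ((Op_le_centralizer h'.nilB hy ?_).trans (centralizer_le_normalizer _)))))
  obtain ⟨k, hk⟩ := IsPGroup.iff_card.1 hQ
  rw [hk]
  exact Nat.Coprime.pow_left k ((Nat.coprime_primes hq.out hr).2 hrq.symm)

end KWPair

end CL
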