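import Mathlib
import Cfsg.Agent.SOLV.KegelWielandt1
import Cfsg.Agent.SOLV.Frobenius

/-!
Wielandt's theorem on products of two nilpotent groups of coprime orders (second part) and the
Kegel-Wielandt theorem.
-/

set_option autoImplicit false

open Subgroup Cfsg
open scoped Pointwise commutatorElement

namespace CL

universe u

variable {G : Type*} [Group G]

theorem exists_isPGroup_le_ne_bot [Finite G] {p : ℕ} [Fact p.Prime] {E : Subgroup G}
    (hd : p ∣ Nat.card E) : ∃ Y : Subgroup G, Y ≤ E ∧ IsPGroup p Y ∧ Y ≠ ⊥ := by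
  obtain ⟨P⟩ : Nonempty (Sylow p E) := inferInstance
  refine ⟨_, map_subtype_le _, P.isPGroup'.map E.subtype, ?_⟩
  rw [Ne, map_eq_bot_iff_of_injective _ E.subtype_injective]
  exact P.ne_bot_of_dvd_card hd

namespace KWPair

variable [Finite G] {A B : Subgroup G}

theorem mem_normalizer_of_centralizer_le (h : KWPair A B) {p : ℕ} [hp : Fact p.Prime]
    {X : Subgroup G} (hX : IsPGroup p X) {g : G} (hXg : X ≤ MulAut.conj g • A)
    (hC : centralizer (X : Set G) ≤ normalizer (A : Set G)) : g ∈ normalizer (A : Set G) := by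
  obtain ⟨u, hu, huA, hup⟩ := h.exists_prime_ne hp.out
  have := Fact.mk hu
  have h1 : IsPGroup u ↥(MulAut.conj g • Op u A) := (isPGroup_Op u A).map _
  have h2 : MulAut.conj g • Op u A ≤ normalizer (Op u A : Set G) := by
    refine le_trans (le_centralizer_of_coprime_of_le_nilpotent (h.conj_left g).nilA
      (conj_smul_mono g (Op_le u A)) hXg (coprime_card_of_isPGroup_of_coprime h1 ?_))
      (hC.trans (normalizer_le_normalizer_map_pCore A))
    obtain ⟨k, hk⟩ := IsPGroup.iff_card.1 hX
    rw [hk]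
    exact Nat.Coprime.pow_left k ((Nat.coprime_primes hp.out hu).2 hup.symm)
  have h3 := h1.inf_normalizer_sylow ((isPGroup_Op u A).toSylow
    (not_dvd_index_Op h.nilA (h.not_dvd_index hu huA)))
  refine h.symm.le_normalizer_of_le (h.normalizer_ne_top (Op_ne_bot h.nilA huA)
    (h.ne_top (isSolvable_of_isPGroup (isPGroup_Op u A)))) (le_normalizer_Op u A)
    (conj_smul_eq_iff_mem_normalizer.1 (conj_smul_eq_of_le ?_))
  exact (le_inf le_rfl h2).trans (h3.le.trans inf_le_right)

theorem centralizer_le_normalizer' (h : KWPair A B) {q : ℕ} [hq : Fact q.Prime]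
    {Y : Subgroup G} (hY : IsPGroup q Y) (hY1 : Y ≠ ⊥) (hYB : Y ≤ B)
    (hYA : Y ≤ normalizer (A : Set G)) : centralizer (Y : Set G) ≤ normalizer (B : Set G) := by
  obtain ⟨r, hr, hrB, hrq⟩ := h.symm.exists_prime_ne hq.out
  have := Fact.mk hr
  refine h.le_normalizer_of_isFact (ne_top_of_le_ne_top (h.normalizer_ne_top hY1
    (h.ne_top (isSolvable_of_isPGroup hY))) (centralizer_le_normalizer _))
    (IsFact.subgroupOf_of_forall fun c hc => ?_) hrB (Op_le_centralizer h.nilB hYB ?_)
  · obtain ⟨a, ha, b, hb, rfl⟩ := h.fact c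
    refine ⟨a, ha, b, hb, rfl, Or.inr fun y hy => ?_⟩
    have h1 : y * (a * b) = a * b * y := hc y hy
    have h2 : b * y * b⁻¹ * y⁻¹ ∈ A ⊓ B := by
      refine mem_inf.2 ⟨?_, mul_mem (mul_mem (mul_mem hb (hYB hy)) (inv_mem hb)) (inv_mem (hYB hy))⟩
      have : b * y * b⁻¹ * y⁻¹ = a⁻¹ * (y * a * y⁻¹) := by
        calc b * y * b⁻¹ * y⁻¹ = a⁻¹ * (a * b * y) * b⁻¹ * y⁻¹ := by group
          _ = _ := by rw [← h1]; group
      rw [this]
      exact mul_mem (inv_mem ha) ((mem_normalizer_iff.1 (hYA hy) a).1 ha)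
    rw [h.inf_eq_bot, mem_bot] at h2
    calc y * b = (b * y * b⁻¹ * y⁻¹) * (y * b) := by rw [h2, one_mul]
      _ = b * y := by group
  · obtain ⟨k, hk⟩ := IsPGroup.iff_card.1 hY
    rw [hk]
    exact Nat.Coprime.pow_left k ((Nat.coprime_primes hq.out hr).2 hrq.symm)

theorem center_not_mem_conj (h : KWPair A B) {p : ℕ} [hp : Fact p.Prime] {z : G} (hz1 : z ≠ 1)
    (hz : z ∈ centralizer (A : Set G)) {k : ℕ} (hk : z ^ p ^ k = 1) {g : G}
    (hg : g ∉ normalizer (A : Set G)) : z ∉ MulAut.conj g • A := fun hzg => by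
  have hX : IsPGroup p (zpowers z) := by
    obtain ⟨j, -, hj⟩ := (Nat.dvd_prime_pow hp.out).1 (orderOf_dvd_of_pow_eq_one hk)
    exact IsPGroup.of_card (by rw [Nat.card_zpowers, hj])
  refine hg (h.mem_normalizer_of_centralizer_le hX (zpowers_le.2 hzg)
    (h.symm.le_normalizer_of_le (ne_top_of_le_ne_top (h.centralizer_ne_top hz1)
      (centralizer_le (by simp))) (le_centralizer_iff.1 (zpowers_le.2 hz))))

theorem normalizer_inf_centralizer_le (h : KWPair A B) {g : G} (hg : g ∉ normalizer (A : Set G))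
    (hD : A ⊓ MulAut.conj g • A ≠ ⊥) :
    normalizer (A : Set G) ⊓ centralizer ((A ⊓ MulAut.conj g • A : Subgroup G) : Set G) ≤ A := by
  set E := normalizer (A : Set G) ⊓ centralizer ((A ⊓ MulAut.conj g • A : Subgroup G) : Set G)
  have h1 : (Nat.card E).Coprime (Nat.card B) := by
    refine Nat.coprime_of_dvd fun q hq hqE hqB => ?_
    have := Fact.mk hq
    obtain ⟨Y, hYE, hY, hY1⟩ := exists_isPGroup_le_ne_bot hqE
    obtain ⟨w, hw⟩ := h.symm.exists_le_conj hqB hY
    have h' := h.conj_right w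
    have h2 := h'.centralizer_le_normalizer' hY hY1 hw (hYE.trans inf_le_left)
    obtain ⟨p, hp, hpD⟩ := Nat.exists_prime_and_dvd (fun e => hD (card_eq_one.1 e))
    have := Fact.mk hp
    obtain ⟨X, hXD, hX, hX1⟩ := exists_isPGroup_le_ne_bot hpD
    exact hg (h.mem_normalizer_of_centralizer_le hX (hXD.trans inf_le_right)
      (h'.symm.centralizer_le_normalizer' hX hX1 (hXD.trans inf_le_left)
        (hXD.trans ((le_centralizer_iff.1 (hYE.trans inf_le_right)).trans h2))))
  have h2 : E.subgroupOf (normalizer (A : Set G)) ≤ A.subgroupOf (normalizer (A : Set G)) :=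
    le_of_coprime_index (by
      rw [card_subgroupOf_of_le inf_le_left]
      exact h1.coprime_dvd_right ((relIndex_dvd_index_of_le le_normalizer).trans
        h.fact.symm.index_dvd_card))
  exact fun x hx => h2 (show (⟨x, hx.1⟩ : normalizer (A : Set G)) ∈ E.subgroupOf _ from hx)

/-- Step 7: `A` is a trivial intersection subgroup. -/
theorem inf_conj_eq_bot (h : KWPair A B) {g₀ : G} (hg₀ : g₀ ∉ normalizer (A : Set G)) :
    A ⊓ MulAut.conj g₀ • A = ⊥ := by
  by_contra hne
  obtain ⟨D, hD₀, hmax⟩ := Finite.exists_le_maximal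
    (p := fun D : Subgroup G => ∃ g, g ∉ normalizer (A : Set G) ∧ D = A ⊓ MulAut.conj g • A)
    ⟨g₀, hg₀, rfl⟩
  obtain ⟨g, hg, hDg⟩ := hmax.1
  have hD : D ≠ ⊥ := fun e => hne (eq_bot_iff.2 (hD₀.trans e.le))
  have hDA : D ≤ A := hDg ▸ inf_le_left
  have hDA' : D ≤ MulAut.conj g • A := hDg ▸ inf_le_right
  have hNC := h.normalizer_inf_centralizer_le hg (hDg ▸ hD)
  rw [← hDg] at hNC
  set C := centralizer (D : Set G) with hC
  have hZ : D.subgroupOf C ≤ center C := fun x hx =>
    mem_center_iff.2 fun c => Subtype.ext (c.2 x hx).symm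
  have := normal_of_le_center hZ
  let π := QuotientGroup.mk' (D.subgroupOf C)
  have hπ : ∀ c : C, π c = 1 ↔ (c : G) ∈ D := fun c => QuotientGroup.eq_one_iff c
  let H := (A.subgroupOf C).map π
  have hH : ∀ c : C, π c ∈ H ↔ (c : G) ∈ A := fun c => by
    change c ∈ ((A.subgroupOf C).map π).comap π ↔ c ∈ A.subgroupOf C
    rw [comap_map_eq_self]
    rw [QuotientGroup.ker_mk']
    exact comap_mono hDA
  have hzC : ∀ z ∈ centralizer (A : Set G), z ∈ C := fun z hz => centralizer_le hDA hz
  have hz : ∀ p : ℕ, p.Prime → p ∣ Nat.card A → ∃ z : C, (z : G) ∈ A ∧ (z : G) ≠ 1 ∧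
      (z : G) ∈ centralizer (A : Set G) ∧ (∃ k, z ^ p ^ k = 1) ∧ π z ≠ 1 ∧
      (z : G) ∉ MulAut.conj g⁻¹ • A := fun p hp hd => by
    have := Fact.mk hp
    obtain ⟨z, hzA, hz1, hzc, k, hk⟩ := h.exists_center_prime hp hd
    exact ⟨⟨z, hzC z hzc⟩, hzA, hz1, hzc, ⟨k, Subtype.ext hk⟩,
      fun e => h.center_not_mem_conj hz1 hzc hk hg (hDA' ((hπ _).1 e)),
      h.center_not_mem_conj hz1 hzc hk fun e => hg (inv_mem_iff.1 e)⟩
  obtain ⟨p, hp, hpA, -⟩ := h.exists_prime_ne Nat.prime_two
  obtain ⟨z, hzA, hz1, hzc, -, hzπ, hzg⟩ := hz p hp hpA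
  have hF : IsFrobeniusComplement H := by
    refine ⟨fun e => hzπ (mem_bot.1 (e.le ((hH z).2 hzA))), fun e => hzg ?_,
      Frob.malnormal_iff.2 fun c hc x hx hcx => ?_⟩
    · have h1 : g * z * g⁻¹ ∈ C := by
        refine centralizer_le hDA' ?_
        rw [centralizer_conj_smul]
        exact conj_mem_conj_smul hzc
      have h2 := (hH ⟨_, h1⟩).1 (e.ge (mem_top _))
      rw [mem_conj_smul_iff]
      simpa using h2
    · obtain ⟨c, rfl⟩ := QuotientGroup.mk'_surjective _ c
      obtain ⟨x, rfl⟩ := QuotientGroup.mk'_surjective _ x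
      change π c ∉ H at hc
      change π x ∈ H at hx
      change π c * π x * (π c)⁻¹ ∈ H at hcx
      rw [← map_inv, ← map_mul, ← map_mul, hH] at hcx
      rw [hH] at hc hx
      have h1 : D ≤ A ⊓ MulAut.conj (c : G)⁻¹ • A := le_inf hDA fun d hd => by
        rw [mem_conj_smul_iff, inv_inv, ← c.2 d hd, mul_inv_cancel_right]
        exact hDA hd
      have h2 := hmax.le_of_ge ⟨(c : G)⁻¹, fun e => hc (hNC (mem_inf.2 ⟨inv_mem_iff.1 e, c.2⟩)), rfl⟩ h1
      refine (hπ x).2 (h2 (mem_inf.2 ⟨hx, ?_⟩))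
      rw [mem_conj_smul_iff, inv_inv]
      exact hcx
  obtain ⟨K, -, hKn, hKc, hK1, -⟩ := Frob.exists_kernel hF
  have hcop : (Nat.card H).Coprime (Nat.card K) := by
    rw [← hKc.index_eq_card]
    exact Frob.coprime_index_of_centralizer_le H fun x hx hx1 => Frob.centralizer_le hF hx hx1
  obtain ⟨q, hq, hqK⟩ := Nat.exists_prime_and_dvd (fun e => hK1 (card_eq_one.1 e))
  have := Fact.mk hq
  have hqA : ¬ q ∣ Nat.card A := fun hd => by
    obtain ⟨y, hyA, -, -, ⟨k, hk⟩, hyπ, -⟩ := hz q hq hd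
    obtain ⟨j, -, hj⟩ := (Nat.dvd_prime_pow hq).1
      (orderOf_dvd_of_pow_eq_one (x := π y) (n := q ^ k) (by rw [← map_pow, hk, map_one]))
    refine hq.one_lt.ne' (Nat.eq_one_of_dvd_coprimes hcop ?_ hqK)
    refine dvd_trans ?_ (orderOf_dvd_natCard H ((hH y).2 hyA))
    rw [hj]
    refine dvd_pow_self q fun e => hyπ ?_
    rwa [e, pow_zero, orderOf_eq_one_iff] at hj
  have hqB : q ∣ Nat.card B := (hq.dvd_mul.1 (hqK.trans ((card_subgroup_dvd_card K).trans
    ((card_quotient_dvd _).trans ((card_subgroup_dvd_card C).trans h.fact.card_dvd))))).resolve_left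
    hqA
  obtain ⟨Q, hQ⟩ := coprime_exists_invariant_sylow (zpowers (π z)) K le_normalizer_of_normal
    (hcop.coprime_dvd_left (card_dvd_of_le (zpowers_le.2 ((hH z).2 hzA))))
    (Or.inl inferInstance) q
  have hQq : q ∣ Nat.card ((Q : Subgroup K).map K.subtype) := by
    rw [card_subtype]
    exact Q.dvd_card_of_dvd_card hqK
  have hQp := Q.isPGroup'.map K.subtype
  generalize (Q : Subgroup K).map K.subtype = Q' at hQ hQq hQp
  have hn : Group.IsNilpotent (Q'.comap π) := by
    have := hQp.isNilpotent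
    refine Subgroup.isNilpotent_of_ker_le_center (π.subgroupComap Q') fun x hx => ?_
    have h1 : (x : C) ∈ center C := hZ ((hπ x).1 (congrArg Subtype.val hx))
    exact mem_center_iff.2 fun y => Subtype.ext (mem_center_iff.1 h1 y)
  have h1 : z ∈ normalizer (Op q (Q'.comap π) : Set C) := normalizer_le_normalizer_map_pCore _
    (le_normalizer_comap π (hQ (mem_zpowers _)))
  refine h.not_mem_normalizer hz1 hzc hqB ((isPGroup_Op q (Q'.comap π)).map C.subtype) ?_
    (le_normalizer_map C.subtype (mem_map_of_mem _ h1))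
  rw [Ne, map_eq_bot_iff_of_injective _ C.subtype_injective]
  refine Op_ne_bot hn ?_
  rw [card_comap_mk']
  exact hQq.mul_right _

theorem card_le (h : KWPair A B) : Nat.card A ≤ Nat.card B := by
  obtain ⟨g, -, hg⟩ := SetLike.exists_of_lt (lt_top_iff_ne_top.2 h.normalizer_left_ne_top)
  have h1 := card_inf_mul_relIndex A (MulAut.conj g • A)
  rw [h.inf_conj_eq_bot hg, card_bot, one_mul, card_conj_smul] at h1
  rw [← h1]
  refine (relIndex_le_of_le_right le_top ?_).trans ?_ <;> rw [relIndex_top_right]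
  · exact A.index_ne_zero_of_finite
  · exact Nat.le_of_dvd Nat.card_pos h.fact.symm.index_dvd_card

theorem false (h : KWPair A B) : False := by
  have h1 := h.cop
  rw [le_antisymm h.card_le h.symm.card_le, Nat.coprime_self] at h1
  exact h.symm.left_ne_bot (card_eq_one.1 h1)

end KWPair

/-- Wielandt's theorem: a product of two nilpotent groups of coprime orders is solvable. -/
theorem isSolvable_of_isFact_of_coprime {G : Type u} [Group G] [Finite G] {A B : Subgroup G}
    (hA : Group.IsNilpotent A) (hB : Group.IsNilpotent B)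
    (hc : (Nat.card A).Coprime (Nat.card B)) (h : IsFact A B) : Group.IsSolvable G := by
  induction hn : Nat.card G using Nat.strong_induction_on generalizing G with | _ n ih =>
  subst hn
  by_contra hG
  have : Nontrivial G := by
    by_contra hs
    rw [not_nontrivial_iff_subsingleton] at hs
    exact hG inferInstance
  refine KWPair.false ⟨hA, hB, hc, h, ⟨fun N hN => ?_⟩, hG,
    fun L hL X Y hX hY hXY hf => ih _ (card_lt_of_ne_top hL) hX hY hXY hf rfl⟩
  by_contra hc'
  rw [not_or] at hc'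
  refine hG (isSolvable_of_normal_of_quotient N
    (ih _ (card_lt_of_ne_top hc'.2) (isNilpotent_subgroupOf hA N) (isNilpotent_subgroupOf hB N) ?_
      (h.subgroupOf_normal_of_coprime hc N) rfl)
    (ih _ (card_quotient_lt hc'.1) (isNilpotent_map A _) (isNilpotent_map B _)
      ((hc.coprime_dvd_left (card_map_dvd _ _)).coprime_dvd_right (card_map_dvd _ _))
      (h.map (QuotientGroup.mk'_surjective N)) rfl))
  rw [card_subgroupOf_eq, card_subgroupOf_eq]
  exact (hc.coprime_dvd_left (card_dvd_of_le inf_le_left)).coprime_dvd_right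
    (card_dvd_of_le inf_le_left)

/-- The Kegel-Wielandt theorem: a finite product of two nilpotent groups is solvable. -/
theorem isSolvable_of_isFact_of_isNilpotent {G : Type u} [Group G] [Finite G] {A B : Subgroup G}
    (hA : Group.IsNilpotent A) (hB : Group.IsNilpotent B) (h : IsFact A B) :
    Group.IsSolvable G := by
  induction hn : Nat.card G using Nat.strong_induction_on generalizing G with | _ n ih =>
  subst hn
  by_cases hc : (Nat.card A).Coprime (Nat.card B)
  · exact isSolvable_of_isFact_of_coprime hA hB hc h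
  obtain ⟨p, hp, hpA, hpB⟩ := Nat.Prime.not_coprime_iff_dvd.1 hc
  have := Fact.mk hp
  have hq : ∀ (N : Subgroup G) [N.Normal], N ≠ ⊥ → Group.IsSolvable (G ⧸ N) := fun N _ hN =>
    ih _ (card_quotient_lt hN) (isNilpotent_map A _) (isNilpotent_map B _)
      (h.map (QuotientGroup.mk'_surjective N)) rfl
  by_cases hO : pCore p G = ⊥
  swap
  · exact isSolvable_of_normal_of_quotient _ (isSolvable_of_isPGroup (isPGroup_pCore p G)) (hq _ hO)
  obtain ⟨R, hR⟩ := h.exists_sylow_eq_sup_pCore hA hB p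
  have h1 := commutator_le_piCore_of_permutes_conj (π := {p})
    (isPGroup_iff_isPiNum.1 (isPGroup_Op p A)) (isPGroup_iff_isPiNum.1 (isPGroup_Op p B))
    (fun x => by
      have := h.permutes_conj (le_normalizer_Op p A) (le_normalizer_Op p B)
        (Permutes.of_coe_eq_mul hR) 1 x
      rwa [conj_one_smul] at this)
  rw [← pCore_eq_piCore, hO, le_bot_iff, commutator_eq_bot_iff_le_centralizer] at h1
  have h2 : normalClosure (Op p A : Set G) ≤ centralizer (normalClosure (Op p B : Set G) : Set G) :=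
    normalClosure_le_normal h1
  have h3 := hq (normalClosure (Op p A : Set G)) fun e =>
    Op_ne_bot hA hpA (eq_bot_iff.2 (le_normalClosure.trans e.le))
  refine isSolvable_of_normal_of_quotient _ (isSolvable_of_map_of_inf_ker _
    (QuotientGroup.mk' (normalClosure (Op p A : Set G))) inferInstance ?_)
    (hq (normalClosure (Op p B : Set G)) fun e =>
      Op_ne_bot hB hpB (eq_bot_iff.2 (le_normalClosure.trans e.le)))
  rw [QuotientGroup.ker_mk']
  exact Group.isSolvable_of_comm fun a b => Subtype.ext (h2 b.2.2 a a.2.1)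

/-- A product of two nilpotent groups, not both the whole group, has a proper normal subgroup
containing one of the factors. -/
theorem exists_normal_ge_of_isFact_of_isNilpotent {G : Type u} [Group G] [Finite G]
    {A B : Subgroup G} (hA : Group.IsNilpotent A) (hB : Group.IsNilpotent B) (h : IsFact A B)
    (hne : A ≠ ⊤ ∨ B ≠ ⊤) : ∃ N : Subgroup G, N.Normal ∧ N ≠ ⊤ ∧ (A ≤ N ∨ B ≤ N) := by
  induction hn : Nat.card G using Nat.strong_induction_on generalizing G with | _ n ih =>
  subst hn
  have := isSolvable_of_isFact_of_isNilpotent hA hB h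
  have : Nontrivial G := by
    by_contra hs
    rw [not_nontrivial_iff_subsingleton] at hs
    exact hne.elim (fun e => e (Subsingleton.elim _ _)) fun e => e (Subsingleton.elim _ _)
  obtain ⟨N, hN⟩ := exists_isMinNormal G
  have := hN.normal
  have hs := QuotientGroup.mk'_surjective N
  by_cases hq : A.map (QuotientGroup.mk' N) ≠ ⊤ ∨ B.map (QuotientGroup.mk' N) ≠ ⊤
  · obtain ⟨M, hM, hMt, hle⟩ := ih _ (card_quotient_lt hN.ne_bot) (isNilpotent_map A _)
      (isNilpotent_map B _) (h.map hs) hq rfl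
    refine ⟨M.comap (QuotientGroup.mk' N), inferInstance, fun e => hMt ?_,
      hle.imp map_le_iff_le_comap.1 map_le_iff_le_comap.1⟩
    rw [← map_comap_mk' N M, e, map_top_of_surjective _ hs]
  rw [not_or, not_not, not_not] at hq
  have key : ∀ X : Subgroup G, X.map (QuotientGroup.mk' N) = ⊤ → IsFact X N := fun X hX =>
    .of_sup_eq_top (by rw [← comap_map_mk', hX, comap_top])
  have := hN.isMulCommutative_of_isSolvable inferInstance
  have hG := isNilpotent_of_trifactorized hA hB (isNilpotent_of_isMulCommutative N) h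
    (key A hq.1) (key B hq.2)
  have key2 : ∀ X : Subgroup G, X ≠ ⊤ → ∃ M : Subgroup G, M.Normal ∧ M ≠ ⊤ ∧ X ≤ M := fun X hX => by
    obtain ⟨M, hM, hXM⟩ := (eq_top_or_exists_le_coatom X).resolve_left hX
    exact ⟨M, isNilpotent_iff_coatom_normal.1 hG M hM, hM.1, hXM⟩
  rcases hne with e | e
  · obtain ⟨M, h1, h2, h3⟩ := key2 A e
    exact ⟨M, h1, h2, Or.inl h3⟩
  · obtain ⟨M, h1, h2, h3⟩ := key2 B e
    exact ⟨M, h1, h2, Or.inr h3⟩

end CL
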