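import Cfsg.Agent.SOLV.SemiR2
import Cfsg.Agent.S3225

/-! An involution `t` acting on a 2-group `S` with `C_S(t)` cyclic of order 4. -/

set_option autoImplicit false

namespace CL.SR1
open Subgroup Cfsg CL.MSS CL.PCyc

variable {G : Type*} [Group G] [Finite G]

structure Cx (S : Subgroup G) (t r b : G) (n : ℕ) : Prop where
  t2 : t * t = 1
  rS : r ∈ S
  bS : b ∈ S
  ro : orderOf r = 4
  bo : orderOf b = 2 ^ (n + 1)
  rt : Commute r t
  cen : ∀ s ∈ S, Commute s t → s ∈ zpowers r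
  psi : ∀ s ∈ S, s * t * s⁻¹ * t⁻¹ ∈ zpowers b
  nrm : ∀ s ∈ S, s * b * s⁻¹ ∈ zpowers b
  tb : t * b * t⁻¹ = b⁻¹
  idx : (zpowers b).relIndex S = 4

theorem cyc_comm {x f f' : G} (hf : f ∈ zpowers x) (hf' : f' ∈ zpowers x) : Commute f f' := by
  obtain ⟨i, rfl⟩ := hf
  obtain ⟨j, rfl⟩ := hf'
  exact Commute.zpow_zpow_self _ _ _

theorem inv_of_gen {x e f : G} (h : e * x * e⁻¹ = x⁻¹) (hf : f ∈ zpowers x) :
    e * f * e⁻¹ = f⁻¹ := by
  obtain ⟨i, rfl⟩ := hf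
  simp only
  rw [← conj_zpow, h, inv_zpow]

theorem comm_of_gen {x e f : G} (h : Commute e x) (hf : f ∈ zpowers x) : Commute e f := by
  obtain ⟨i, rfl⟩ := hf
  exact h.zpow_right i

theorem conj_sq (g a : G) : g * a * g⁻¹ * (g * a * g⁻¹) = g * (a * a) * g⁻¹ := by group

theorem conj_one {g a : G} (h : g * a * g⁻¹ = 1) : a = 1 := by simpa [mul_inv_eq_one] using h

theorem conj_inj {g a a' : G} (h : g * a * g⁻¹ = g * a' * g⁻¹) : a = a' := by simpa using h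

theorem tt4 {A S D : Subgroup G} (hA : pResidual 2 A = ⊤) (hS : SylIn 2 S A) (hDS : D ≤ S)
    (hD : D.relIndex S = 2) (h : ∀ f ∈ S, f * f = 1 → f ∈ D) {x : G} (hx : x ∈ S)
    (ho : orderOf x = 4) : ∃ g ∈ A, g * x * g⁻¹ ∈ D := by
  have hxA := hS.le hx
  have ho' : orderOf (⟨x, hxA⟩ : A) = 2 ^ 2 := by rw [← orderOf_coe, ho]; rfl
  obtain ⟨g, hg⟩ := Cfsg.Agent.S3225.result (G := A)
    (even_iff_two_dvd.2 (Dvd.dvd.trans (by rw [ho']; decide) (orderOf_dvd_natCard (⟨x, hxA⟩ : A))))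
    (CL.Iso.pResidual_two_eq_top_iff.1 hA) hS.toSylow (D.subgroupOf A)
    (by rw [hS.coe_toSylow]; exact fun a ha => hDS ha)
    (by rw [hS.coe_toSylow, relIndex_subgroupOf hS.le, hD]) 2 (by omega)
    (fun y hy hyD => by
      rw [hS.coe_toSylow] at hy
      by_contra! hle
      refine hyD (h _ hy ?_)
      have h0 := orderOf_pos y
      have : orderOf y ∣ 2 := by interval_cases orderOf y <;> decide
      have := orderOf_dvd_iff_pow_eq_one.1 this
      rw [pow_two] at this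
      exact congrArg Subtype.val this) ⟨x, hxA⟩ (by rw [hS.coe_toSylow]; exact hx) ho'
  exact ⟨g, g.2, hg⟩

namespace Cx
variable {S : Subgroup G} {t r b : G} {n : ℕ} (h : Cx S t r b n)
include h

theorem BS : zpowers b ≤ S := zpowers_le.2 h.bS

theorem tinv {β : G} (hβ : β ∈ zpowers b) : t * β * t⁻¹ = β⁻¹ := inv_of_gen h.tb hβ

theorem nrm' {s β : G} (hs : s ∈ S) (hβ : β ∈ zpowers b) : s * β * s⁻¹ ∈ zpowers b := by
  obtain ⟨i, rfl⟩ := hβ
  simp only
  rw [← conj_zpow]; exact zpow_mem (h.nrm s hs) i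

theorem comm {a a' : G} (ha : a ∈ S) (ha' : a' ∈ S) : a * a' * a⁻¹ * a'⁻¹ ∈ zpowers b := by
  have : Fact (Nat.Prime 2) := ⟨Nat.prime_two⟩
  have hn : ((zpowers b).subgroupOf S).Normal := ⟨fun x hx g => h.nrm' g.2 hx⟩
  have hc := IsPGroup.isMulCommutative_of_card_eq_prime_sq (p := 2)
    (G := S ⧸ (zpowers b).subgroupOf S) h.idx
  have : ((⟨a, ha⟩ * ⟨a', ha'⟩ * (⟨a, ha⟩ : S)⁻¹ * (⟨a', ha'⟩ : S)⁻¹ : S) :
      S ⧸ (zpowers b).subgroupOf S) = 1 := by
    simp only [QuotientGroup.mk_mul, QuotientGroup.mk_inv]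
    rw [mul_comm' (QuotientGroup.mk (⟨a, ha⟩ : S) : S ⧸ (zpowers b).subgroupOf S)]; group
  have h5 := (QuotientGroup.eq_one_iff _).1 this
  exact h5

theorem z1 : b ^ 2 ^ n ≠ 1 := fun e => by
  have := orderOf_pow_pow Nat.prime_two h.bo
  rw [e] at this; simp at this

theorem z2 : b ^ 2 ^ n * b ^ 2 ^ n = 1 := by
  rw [← pow_two, ← pow_mul, ← pow_succ, ← h.bo, pow_orderOf_eq_one]

theorem zB : b ^ 2 ^ n ∈ zpowers b := pow_mem (mem_zpowers b) _

theorem uniq {f : G} (hf : f ∈ zpowers b) (h2 : f * f = 1) : f = 1 ∨ f = b ^ 2 ^ n :=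
  cyc_inv h.bo hf h2

theorem rr : r * r = b ^ 2 ^ n := by
  have h1 : Commute (b ^ 2 ^ n) t := by
    have := h.tinv h.zB
    rw [inv_eq_of_mul_eq_one_right h.z2, mul_inv_eq_iff_eq_mul] at this
    exact this.symm
  rcases cyc_inv (m := 1) h.ro (h.cen _ (h.BS h.zB) h1) h.z2 with e | e
  · exact absurd e h.z1
  · rw [e, pow_one, pow_two]

theorem zc {s : G} (hs : s ∈ S) : Commute s (b ^ 2 ^ n) :=
  mul_inv_eq_iff_eq_mul.1 ((h.uniq (h.nrm' hs h.zB)
    (by rw [conj_sq, h.z2]; group)).resolve_left fun e => h.z1 (conj_one e))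

theorem rB : r ∉ zpowers b := fun e => by
  have := h.tinv e
  rw [← h.rt.eq, mul_inv_cancel_right, eq_inv_iff_mul_eq_one, h.rr] at this
  exact h.z1 this

theorem two {x : G} (hx : x ∈ S) (hxB : x ∉ zpowers b) (h2 : x * x ∈ zpowers b) :
    (zpowers b ⊔ zpowers x).relIndex S = 2 ∧ zpowers b ⊔ zpowers x ≤ S ∧
      ∀ m ∈ zpowers b ⊔ zpowers x, m ∈ zpowers b ∨ m * x⁻¹ ∈ zpowers b := by
  let K : Subgroup G :=
    { carrier := {m | m ∈ S ∧ (m ∈ zpowers b ∨ m * x⁻¹ ∈ zpowers b)}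
      one_mem' := ⟨one_mem _, .inl (one_mem _)⟩
      mul_mem' := by
        rintro p q ⟨hp, e1 | e1⟩ ⟨hq, e2 | e2⟩ <;> refine ⟨mul_mem hp hq, ?_⟩
        · exact .inl (mul_mem e1 e2)
        · exact .inr (mul_assoc p q _ ▸ mul_mem e1 e2)
        · right; have := mul_mem e1 (h.nrm' hx e2); convert this using 1; group
        · left; have := mul_mem (mul_mem e1 (h.nrm' hx e2)) h2; convert this using 1; group
      inv_mem' := by
        rintro p ⟨hp, e1 | e1⟩ <;> refine ⟨inv_mem hp, ?_⟩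
        · exact .inl (inv_mem e1)
        · right; have := mul_mem (h.nrm' (inv_mem hx) (inv_mem e1)) (inv_mem h2)
          convert this using 1; group }
  have hK : zpowers b ⊔ zpowers x ≤ K := sup_le (fun m hm => ⟨h.BS hm, .inl hm⟩)
    (zpowers_le.2 ⟨hx, .inr (by simp)⟩)
  have hle : zpowers b ⊔ zpowers x ≤ S := sup_le h.BS (zpowers_le.2 hx)
  refine ⟨?_, hle, fun m hm => (hK hm).2⟩
  have h3 := relIndex_mul_relIndex _ _ _ (le_sup_left : zpowers b ≤ zpowers b ⊔ zpowers x) hle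
  have h4 : (zpowers b).relIndex (zpowers b ⊔ zpowers x) = 2 := by
    rw [relIndex, index_eq_two_iff]
    refine ⟨⟨x⁻¹, inv_mem (mem_sup_right (mem_zpowers x))⟩, fun m => ?_⟩
    rw [mem_subgroupOf, mem_subgroupOf]
    have h5 : ¬((m : G) * x⁻¹ ∈ zpowers b ∧ (m : G) ∈ zpowers b) := fun e => hxB (by
      simpa using mul_mem (inv_mem e.1) e.2)
    have := (hK m.2).2
    change Xor ((m : G) * x⁻¹ ∈ zpowers b) _
    unfold Xor; tauto
  rw [h4, h.idx] at h3; omega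

theorem M2 : (zpowers b ⊔ zpowers r).relIndex S = 2 ∧ zpowers b ⊔ zpowers r ≤ S ∧
    ∀ m ∈ zpowers b ⊔ zpowers r, m ∈ zpowers b ∨ m * r⁻¹ ∈ zpowers b :=
  h.two h.rS h.rB (h.rr ▸ h.zB)

theorem gen {s : G} (hs : s ∈ S) (hsM : s ∉ zpowers b ⊔ zpowers r) :
    b ∈ zpowers (s * t * s⁻¹ * t⁻¹) := by
  obtain ⟨k, hk⟩ := h.psi s hs
  simp only at hk
  rw [← hk]
  refine mem_zpowers_zpow_of_not_dvd Nat.prime_two h.bo ?_
  rintro ⟨i, rfl⟩
  have h1 := h.tinv (β := b ^ (-i)) (zpow_mem (mem_zpowers b) _)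
  have h2 : Commute (b ^ (-i) * s) t := by
    have h3 : s * t * s⁻¹ = b ^ i * t * b ^ (-i) := by
      calc _ = s * t * s⁻¹ * t⁻¹ * t := by group
        _ = b ^ i * (b ^ (-i))⁻¹ * t := by rw [← hk]; group
        _ = _ := by rw [← h1]; group
    change _ * _ = _ * _
    calc _ = b ^ (-i) * (s * t * s⁻¹) * s := by group
      _ = _ := by rw [h3]; group
  have h4 := mul_mem (mem_sup_left (S := zpowers b) (T := zpowers r) (zpow_mem (mem_zpowers b) i))
    (mem_sup_right (h.cen _ (mul_mem (zpow_mem h.bS _) hs) h2))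
  exact hsM (by simpa using h4)

theorem sq_ne {s : G} (hn : 1 ≤ n) (hs : s ∈ S) (hsM : s ∉ zpowers b ⊔ zpowers r) :
    s * t * s⁻¹ * t⁻¹ * (s * t * s⁻¹ * t⁻¹) ≠ 1 := fun e => by
  have h1 : b * b = 1 := by
    rcases zp2 e (h.gen hs hsM) with e1 | e1
    · rw [e1, one_mul]
    · rw [← e1] at e; exact e
  have := orderOf_dvd_of_pow_eq_one (pow_two b ▸ h1)
  rw [h.bo, pow_succ] at this
  have h2 := Nat.le_of_dvd two_pos this
  have := Nat.one_lt_two_pow (n := n) (by omega)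
  omega

theorem einv {e β : G} (he : e ∈ S) (heM : e ∉ zpowers b ⊔ zpowers r) (h2 : e * e = 1)
    (hβ : β ∈ zpowers b) : e * β * e⁻¹ = β⁻¹ := by
  refine inv_of_gen (inv_of_gen ?_ (h.gen he heM)) hβ
  have h3 : e⁻¹ = e := inv_eq_of_mul_eq_one_right h2
  have h4 : t⁻¹ = t := inv_eq_of_mul_eq_one_right h.t2
  simp only [mul_inv_rev, h3, h4, ← mul_assoc, h2, one_mul]

theorem rpsi {s : G} (hs : s ∈ S) : r * (s * t * s⁻¹ * t⁻¹) * r⁻¹ =
    s * t * s⁻¹ * t⁻¹ * ((r * s * r⁻¹ * s⁻¹) * (r * s * r⁻¹ * s⁻¹)) := by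
  have h1 := h.comm h.rS hs
  have h2 := h.psi s hs
  have h3 := h.tinv (inv_mem h1)
  have h4 : r * t * r⁻¹ = t := mul_inv_eq_iff_eq_mul.2 h.rt.eq
  set γ := r * s * r⁻¹ * s⁻¹ with hγ
  calc _ = γ * s * (r * t * r⁻¹) * s⁻¹ * γ⁻¹ * (r * t * r⁻¹)⁻¹ := by rw [hγ]; group
    _ = γ * (s * t * s⁻¹ * t⁻¹) * (t * γ⁻¹ * t⁻¹) := by rw [h4]; group
    _ = _ := by rw [h3, (cyc_comm h1 h2).eq]; group

theorem rgam {s : G} (hs : s ∈ S) : r * (r * s * r⁻¹ * s⁻¹) * r⁻¹ = (r * s * r⁻¹ * s⁻¹)⁻¹ := by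
  have h1 := (h.zc hs).eq
  rw [← h.rr] at h1
  calc _ = (r * r * s) * r⁻¹ * s⁻¹ * r⁻¹ := by group
    _ = _ := by rw [← h1]; group

theorem exists_out : ∃ s ∈ S, s ∉ zpowers b ⊔ zpowers r := by
  by_contra! h1
  have := h.M2.1
  rw [relIndex_eq_one.2 h1] at this; omega

theorem dich : r * b * r⁻¹ = b⁻¹ ∨ Commute r b := by
  obtain ⟨s, hs, hsM⟩ := h.exists_out
  have h1 := h.gen hs hsM
  have h2 := h.rpsi hs
  have h3 := h.rgam hs
  have h4 := h.comm h.rS hs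
  have h5 := h.psi s hs
  generalize r * s * r⁻¹ * s⁻¹ = γ at h2 h3 h4
  generalize s * t * s⁻¹ * t⁻¹ = β at h1 h2 h5
  obtain ⟨k, rfl⟩ := zpowers_le.2 h1 h4
  simp only at h2 h3
  have ho : ∃ j, orderOf β = 2 ^ j :=
    ((Nat.dvd_prime_pow Nat.prime_two).1 (h.bo ▸ orderOf_dvd_of_mem_zpowers h5)).imp fun _ e => e.2
  obtain ⟨j, hj⟩ := ho
  by_cases hk : (2 : ℤ) ∣ k
  · right
    obtain ⟨i, rfl⟩ := hk
    rw [← conj_zpow, h2] at h3
    have h6 : (β ^ (4 * i)) ^ (1 + 2 * i) = 1 := by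
      calc _ = (β * (β ^ (2 * i) * β ^ (2 * i))) ^ (2 * i) * β ^ (2 * i) := by
            rw [show β * (β ^ (2 * i) * β ^ (2 * i)) = β ^ (1 + 4 * i) by group]; group
        _ = 1 := by rw [h3]; group
    obtain ⟨l, -, hl⟩ := (Nat.dvd_prime_pow Nat.prime_two).1
      (hj ▸ orderOf_dvd_of_mem_zpowers (zpow_mem (mem_zpowers β) (4 * i)))
    have h7 := mem_zpowers_zpow_of_not_dvd Nat.prime_two hl (r := 1 + 2 * i) (by omega)
    rw [h6, zpowers_one_eq_bot, mem_bot] at h7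
    refine comm_of_gen (mul_inv_eq_iff_eq_mul.1 ?_) h1
    rw [h2, show β ^ (2 * i) * β ^ (2 * i) = β ^ (4 * i) by group, h7, mul_one]
  · exact .inl (inv_of_gen (inv_of_gen h3 (mem_zpowers_zpow_of_not_dvd Nat.prime_two hj hk)) h1)

end Cx

theorem exists_cx {A T : Subgroup G} {t r : G} (hT : IsPGroup 2 T) (htT : t ∈ T) (htA : t ∉ A)
    (hTA : T ≤ normalizer (A : Set G)) (hi : A.relIndex T = 2) (t2 : t * t = 1)
    (hr : r ∈ T ⊓ A) (ro : orderOf r = 4) (rt : Commute r t)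
    (cen : ∀ s ∈ T ⊓ A, Commute s t → s ∈ zpowers r) :
    T ⊓ A ≤ zpowers r ∨ ∃ b n, Cx (T ⊓ A) t r b n := by
  have : Fact (Nat.Prime 2) := ⟨Nat.prime_two⟩
  have hti : t⁻¹ = t := inv_eq_of_mul_eq_one_right t2
  have hcj : ∀ g ∈ T, ∀ s ∈ T ⊓ A, g * s * g⁻¹ ∈ T ⊓ A := fun g hg s hs =>
    mem_inf.2 ⟨mul_mem (mul_mem hg hs.1) (inv_mem hg), (mem_normalizer_iff.1 (hTA hg) s).1 hs.2⟩
  generalize hS : T ⊓ A = S at hr cen hcj
  have hST : S ≤ T := hS ▸ inf_le_left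
  have hi' : S.relIndex T = 2 := by rw [← hS, inf_comm, inf_relIndex_right, hi]
  have htS : t ∉ S := fun e => htA (hS ▸ e : t ∈ T ⊓ A).2
  let L : Subgroup G := Subgroup.closure {x | ∃ s ∈ S, s * t * s⁻¹ * t⁻¹ = x}
  have hL : ∀ s ∈ S, s * t * s⁻¹ * t⁻¹ ∈ L := fun s hs => subset_closure ⟨s, hs, rfl⟩
  have hLS : L ≤ S := (closure_le _).2 (by
    rintro _ ⟨s, hs, rfl⟩
    have := mul_mem hs (hcj t htT _ (inv_mem hs))
    simpa [mul_assoc] using this)
  have hRS : zpowers r ≤ S := zpowers_le.2 hr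
  let f : S ⧸ (zpowers r).subgroupOf S → L := fun q => ⟨_, hL q.out q.out.2⟩
  have hf : Function.Injective f := fun p q e => by
    rw [← p.out_eq', ← q.out_eq', QuotientGroup.eq, mem_subgroupOf]
    refine cen _ (SetLike.coe_mem _) ?_
    have e' : (p.out : G) * t * (p.out : G)⁻¹ = q.out * t * (q.out : G)⁻¹ :=
      mul_right_cancel (congrArg Subtype.val e)
    change (p.out : G)⁻¹ * q.out * t = t * ((p.out : G)⁻¹ * q.out)
    calc _ = (p.out : G)⁻¹ * (q.out * t * (q.out : G)⁻¹) * q.out := by group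
      _ = _ := by rw [← e']; group
  have h1 : (zpowers r).relIndex S ≤ Nat.card L := Nat.card_le_card_of_injective f hf
  have h2 := relIndex_mul_relIndex ⊥ _ _ bot_le hRS
  have h3 := relIndex_mul_relIndex ⊥ _ _ bot_le hLS
  have h4 := relIndex_mul_relIndex ⊥ _ _ bot_le hST
  simp only [relIndex_bot_left, Nat.card_zpowers, ro, hi'] at h2 h3 h4
  obtain ⟨k, hk⟩ := IsPGroup.iff_card.1 hT
  have hpos : 0 < Nat.card L := Nat.card_pos
  have hposS : 0 < Nat.card S := Nat.card_pos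
  have h5 : L.relIndex S ≤ 4 := by
    by_contra! h; nlinarith
  have h6 : ¬L.relIndex S ≤ 2 := fun h6 => by
    obtain ⟨k, rfl⟩ : ∃ j, k = j + 3 := by
      rcases k with _ | _ | _ | k
      · omega
      · omega
      · omega
      · exact ⟨k, rfl⟩
    have h7 : L.subgroupOf T ≤ commutator T := by
      rw [← map_le_map_iff_of_injective T.subtype_injective, subgroupOf_map_subtype]
      refine inf_le_left.trans ((closure_le _).2 ?_)
      rintro _ ⟨s, hs, rfl⟩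
      exact ⟨_, commutator_mem_commutator (mem_top (⟨s, hST hs⟩ : T)) (mem_top ⟨t, htT⟩), rfl⟩
    have h8 := relIndex_mul_relIndex _ _ _ hLS hST
    obtain ⟨a, d, hd⟩ := exists_isDQS_of_index_commutator hk
      ((index_antitone h7).trans (by change L.relIndex T ≤ 4; rw [← h8, hi']; omega))
    by_cases h9 : (⟨t, htT⟩ : T) ∈ zpowers a
    · rcases cyc_inv hd.orderOf_eq h9 (Subtype.ext t2) with e | e
      · have e' : t = 1 := congrArg Subtype.val e
        exact htS (by rw [e']; exact one_mem _)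
      · have : (a ^ 2 ^ k * a ^ 2 ^ k : T) = ⟨t, htT⟩ := by
          rw [e, ← pow_two, ← pow_mul, pow_succ]
        have e' : ((a ^ 2 ^ k : T) : G) * (a ^ 2 ^ k : T) = t := congrArg Subtype.val this
        exact htS (e' ▸ (mul_iff hi' (SetLike.coe_mem _) (SetLike.coe_mem _)).2 Iff.rfl)
    · have h10 := hd.centralizer_le h9 (mem_centralizer_singleton_iff.2
        (Subtype.ext rt.eq : (⟨r, hST hr⟩ : T) * ⟨t, htT⟩ = ⟨t, htT⟩ * ⟨r, hST hr⟩))
      have h11 := (elemAb_zpowers_sup Nat.prime_two hd.orderOf_central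
        (ord2 (fun e => h9 (by rw [e]; exact one_mem _)) (Subtype.ext t2))
        (mem_center_iff.1 hd.central_mem_center _).symm
        (fun e => h9 (zpowers_le.2 (pow_mem (mem_zpowers a) _) e))).1.2 _ h10
      have := orderOf_dvd_of_pow_eq_one (congrArg Subtype.val h11 : r ^ 2 = 1)
      rw [ro] at this; omega
  have h7 : L.relIndex S = 4 := by
    have : L.relIndex S ≠ 3 := fun e => by
      have : 3 ∣ 2 ^ k := by rw [← hk, ← h4, ← h3, e]; exact ⟨Nat.card L * 2, by ring⟩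
      have := Nat.prime_three.dvd_of_dvd_pow this
      omega
    omega
  have hsurj := (hf.bijective_of_nat_card_le (by
    change _ ≤ (zpowers r).relIndex S; rw [h7] at h3; omega)).2
  replace hsurj : ∀ x ∈ L, ∃ s ∈ S, s * t * s⁻¹ * t⁻¹ = x := fun x hx => by
    obtain ⟨q, hq⟩ := hsurj ⟨x, hx⟩
    exact ⟨_, q.out.2, congrArg Subtype.val hq⟩
  have hinv : ∀ x ∈ L, t * x * t⁻¹ = x⁻¹ := fun x hx => by
    obtain ⟨q, -, rfl⟩ := hsurj x hx
    simp only [mul_inv_rev, hti, ← mul_assoc, inv_inv]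
    rw [mul_assoc _ t t, t2, mul_one]
  have hc : IsMulCommutative L := ⟨⟨fun x y => Subtype.ext (by
    have := hinv _ (mul_mem x.2 y.2)
    rw [show t * ((x : G) * y) * t⁻¹ = (t * x * t⁻¹) * (t * y * t⁻¹) by group, hinv _ x.2,
      hinv _ y.2, ← mul_inv_rev, inv_inj] at this
    exact this.symm)⟩⟩
  have hcyc : IsCyclic L := by
    by_contra hn
    obtain ⟨E, hE, h8, h9⟩ := exists_elemAb_le_of_not_isCyclic (hT.to_le (hLS.trans hST)) hn
    have : E ≤ zpowers (r ^ 2 ^ 1) := fun e he => by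
      have e2 : e * e = 1 := by rw [← pow_two, h8.2 e he]
      have := hinv e (hE he)
      rw [inv_eq_of_mul_eq_one_right e2, mul_inv_eq_iff_eq_mul] at this
      rcases cyc_inv (m := 1) ro (cen e (hLS (hE he)) this.symm) e2 with rfl | rfl
      exacts [one_mem _, mem_zpowers _]
    have := card_le_of_le this
    rw [h9, Nat.card_zpowers, orderOf_pow_pow (m := 1) Nat.prime_two ro] at this
    omega
  obtain ⟨b, hb⟩ := (Subgroup.isCyclic_iff_exists_zpowers_eq_top L).1 hcyc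
  have hbL : b ∈ L := hb ▸ mem_zpowers b
  obtain ⟨n, hn⟩ := IsPGroup.iff_orderOf.1 hT ⟨b, hST (hLS hbL)⟩
  rw [← orderOf_coe] at hn
  rcases n with _ | n
  · left
    rw [pow_zero, orderOf_eq_one_iff] at hn
    intro s hs
    have := hL s hs
    rw [← hb, show b = 1 from hn, zpowers_one_eq_bot, mem_bot, mul_inv_eq_one,
      mul_inv_eq_iff_eq_mul] at this
    exact cen s hs this
  refine .inr ⟨b, n, t2, hr, hLS hbL, ro, hn, rt, cen, hb ▸ hL, fun s hs => ?_, hinv b hbL, hb ▸ h7⟩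
  obtain ⟨q, hq, e⟩ := hsurj b hbL
  have := mul_mem (hL _ (mul_mem hs hq)) (inv_mem (hL s hs))
  rw [hb, ← e]
  convert this using 1
  group

end CL.SR1
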